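import Mathlib.Topology.KrullDimension
import Mathlib.Topology.Sober
import Mathlib.Topology.Inseparable

open Topology

namespace Groth.Agent.KrullSpecializing

attribute [local instance] specializationOrder in
theorem topologicalKrullDim_le_of_specializingMap {α β : Type*} [TopologicalSpace α]
    [TopologicalSpace β] [QuasiSober α] [T0Space α] [QuasiSober β] [T0Space β] (f : α → β)
    (hf : SpecializingMap f) (hs : Function.Surjective f) :
    topologicalKrullDim β ≤ topologicalKrullDim α := by
  rw [topologicalKrullDim, topologicalKrullDim, Order.krullDim_eq_of_orderIso irreducibleSetEquivPoints,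
    Order.krullDim_eq_of_orderIso irreducibleSetEquivPoints]
  have key : ∀ (s : LTSeries β) (a : α), f a = s.last →
      ∃ t : LTSeries α, t.last = a ∧ t.length = s.length := by
    intro s
    induction s using RelSeries.inductionOn' with
    | singleton b => exact fun a _ => ⟨RelSeries.singleton _ a, rfl, rfl⟩
    | snoc p b hpb ih =>
      intro a ha
      rw [RelSeries.last_snoc] at ha
      have hlt : p.last < b := hpb
      obtain ⟨a', ha', hfa'⟩ := hf (show f a ⤳ p.last from ha ▸ (show p.last ≤ b from hlt.le))
      obtain ⟨t, ht, htl⟩ := ih a' hfa'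
      have hne : a' ≠ a := fun h => hlt.ne (by rw [← hfa', h, ha])
      refine ⟨t.snoc a ?_, RelSeries.last_snoc _ _ _, ?_⟩
      · show t.last < a
        rw [ht]
        exact lt_of_le_of_ne (show a' ≤ a from ha') hne
      · simp [htl]
  refine iSup_le fun s => ?_
  obtain ⟨a, ha⟩ := hs s.last
  obtain ⟨t, -, htl⟩ := key s a ha
  rw [← htl]
  exact le_iSup (fun t : LTSeries α => (t.length : WithBot ℕ∞)) t

end Groth.Agent.KrullSpecializing
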